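import Groth.Agent.QCoh.Support
import Groth.Agent.QCoh.Stalk
import Mathlib.RingTheory.KrullDimension.Module

/-!
# The support dimension of a stalk
-/

set_option autoImplicit false
set_option linter.style.haveILetI false
set_option backward.isDefEq.respectTransparency false
set_option backward.isDefEq.respectTransparency.types false

universe u

open CategoryTheory AlgebraicGeometry TopologicalSpace Topology

namespace Groth.Agent.SuppDim5

variable {X : Scheme.{u}} [IsLocallyNoetherian X] {F : X.Modules}

/-- The support dimension of a stalk is the dimension of the space of generizations in the support. -/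
theorem supportDim_stalk_eq (hF : Coh.IsCoh F) (x : X) :
    Module.supportDim (X.presheaf.stalk x) (F.presheaf.stalk x) =
      topologicalKrullDim ↥{t : X | t ∈ CohB1.support F ∧ t ⤳ x} := by
  haveI := QCoh.finite_stalk_of_isFT hF.1 hF.2 x
  let R := X.presheaf.stalk x
  let I := Module.annihilator R (F.presheaf.stalk x)
  obtain ⟨V, hV, hxV, -⟩ := exists_isAffineOpen_mem_and_subset (x := x) (U := (⊤ : X.Opens)) trivial
  letI := QCoh.stalkAlg (X := X) hxV
  letI := QCoh.stalkModule F hxV
  haveI := QCoh.isScalarTower_stalk F hxV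
  haveI := QCoh.isLocalization_stalk' hV hxV
  haveI := QCoh.isLocalizedModule_germLin hF.1 hV hxV
  have hmem : ∀ q : PrimeSpectrum R, I ≤ q.asIdeal ↔ X.fromSpecStalk x q ∈ CohB1.support F := by
    intro q
    rw [← hV.fromSpecStalk_eq_fromSpecStalk hxV]
    show _ ↔ hV.fromSpec (PrimeSpectrum.comap (X.presheaf.germ V x hxV).hom q) ∈ CohB1.support F
    obtain ⟨y, hy, hyp⟩ := QCoh.exists_point hV (PrimeSpectrum.comap (X.presheaf.germ V x hxV).hom q)
    rw [← hyp, hV.fromSpec_primeIdealOf ⟨y, hy⟩]
    constructor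
    · intro hq
      have hsupp : q ∈ Module.support R (F.presheaf.stalk x) := Module.mem_support_iff_of_finite.2 hq
      obtain ⟨z, hz⟩ := Module.mem_support_iff_exists_annihilator.1 hsupp
      obtain ⟨⟨m, s⟩, hm⟩ := IsLocalizedModule.surj (hV.primeIdealOf ⟨x, hxV⟩).asIdeal.primeCompl
        (QCoh.germLin F hxV) z
      refine (QCoh.mem_support_iff hF.1 hV hy).2 ⟨m, fun g hg h0 => ?_⟩
      rw [QCoh.mem_basicOpen_iff_notMem hV hy, hyp] at hg
      apply hg
      show X.presheaf.germ V x hxV g ∈ q.asIdeal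
      apply hz
      rw [Submodule.mem_annihilator_span_singleton]
      have hu : IsUnit (algebraMap Γ(X, V) R s) := IsLocalization.map_units R s
      apply hu.smul_left_cancel.1
      rw [smul_zero, smul_comm, algebraMap_smul]
      refine Eq.trans (congrArg (X.presheaf.germ V x hxV g • ·) hm) ?_
      show algebraMap Γ(X, V) R g • QCoh.germLin F hxV m = 0
      rw [algebraMap_smul, ← map_smul, h0, map_zero]
    · intro h
      obtain ⟨m, hm⟩ := (QCoh.mem_support_iff hF.1 hV hy).1 h
      intro r hr
      have hr0 : r • QCoh.germLin F hxV m = 0 := Module.mem_annihilator.1 hr _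
      obtain ⟨⟨a, s⟩, has⟩ := IsLocalization.surj (hV.primeIdealOf ⟨x, hxV⟩).asIdeal.primeCompl r
      have ha0 : QCoh.germLin F hxV (a • m) = 0 := by
        rw [map_smul, ← algebraMap_smul R a, ← has, mul_comm, mul_smul, hr0, smul_zero]
      obtain ⟨t, ht⟩ := (IsLocalizedModule.eq_zero_iff (hV.primeIdealOf ⟨x, hxV⟩).asIdeal.primeCompl
        (QCoh.germLin F hxV)).1 ha0
      have hta : (t : Γ(X, V)) * a ∈ (hV.primeIdealOf ⟨y, hy⟩).asIdeal := by
        by_contra hne
        refine hm ((t : Γ(X, V)) * a) ((QCoh.mem_basicOpen_iff_notMem hV hy _).2 hne) ?_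
        rw [mul_smul]
        exact ht
      rw [hyp] at hta
      have hta' : algebraMap Γ(X, V) R ((t : Γ(X, V)) * a) ∈ q.asIdeal := hta
      rw [map_mul, ← has, ← mul_assoc, mul_comm (algebraMap Γ(X, V) R _) r, mul_assoc, ← map_mul] at hta'
      exact (q.isPrime.mem_or_mem hta').resolve_right fun hmem' =>
        q.isPrime.ne_top (Ideal.eq_top_of_isUnit_mem _ hmem' (IsLocalization.map_units R (t * s)))
  rw [Module.supportDim_eq_ringKrullDim_quotient_annihilator, ← PrimeSpectrum.topologicalKrullDim_eq_ringKrullDim]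
  let j : PrimeSpectrum (R ⧸ I) → ↥X := fun p => X.fromSpecStalk x (PrimeSpectrum.comap (Ideal.Quotient.mk I) p)
  have hj : IsEmbedding j :=
    ((X.fromSpecStalk x).isEmbedding).comp
      (PrimeSpectrum.isClosedEmbedding_comap_of_surjective _ (Ideal.Quotient.mk I) Ideal.Quotient.mk_surjective).isEmbedding
  have hr : Set.range j = {t : X | t ∈ CohB1.support F ∧ t ⤳ x} := by
    ext t
    constructor
    · rintro ⟨p, rfl⟩
      refine ⟨(hmem _).1 fun a ha => ?_, (Scheme.range_fromSpecStalk (x := x)).le ⟨_, rfl⟩⟩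
      show Ideal.Quotient.mk I a ∈ p.asIdeal
      rw [Ideal.Quotient.eq_zero_iff_mem.2 ha]
      exact p.asIdeal.zero_mem
    · rintro ⟨ht, htx⟩
      obtain ⟨q, rfl⟩ := (Scheme.range_fromSpecStalk (x := x)).ge htx
      have hq : q ∈ Set.range (PrimeSpectrum.comap (Ideal.Quotient.mk I)) := by
        rw [range_comap_of_surjective _ _ Ideal.Quotient.mk_surjective, Ideal.mk_ker]
        exact (hmem q).2 ht
      obtain ⟨p, rfl⟩ := hq
      exact ⟨p, rfl⟩
  exact (hj.toHomeomorph.trans (Homeomorph.setCongr hr)).isHomeomorph.topologicalKrullDim_eq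

end Groth.Agent.SuppDim5
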